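import Groth.Agent.Lib.GrpAtPt20.Props
import Groth.Agent.Lib.GrpAtPt20.Flat
import Groth.Agent.Lib.GrpFin20.Basic
import Groth.Agent.Lib.GrpUnr20.Basic
import Groth.Agent.Lib.FibreLocus.Apps

/-!
# The locus where a homomorphism of groups has a property is a union of fibres
-/

universe u

open CategoryTheory Limits MonoidalCategory CartesianMonoidalCategory AlgebraicGeometry
open scoped MonObj GrpObj

set_option linter.style.haveILetI false
set_option backward.isDefEq.respectTransparency false

namespace Groth.Agent.GrpLocus20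

open FibreLocus

variable {S : Scheme.{u}} {G H : Over S} (u : G ⟶ H)

/-- The map of fibres over `s`. -/
noncomputable abbrev fib (s : S) : ((Over.pullback (S.fromSpecResidueField s)).obj G) ⟶
    ((Over.pullback (S.fromSpecResidueField s)).obj H) :=
  (Over.pullback (S.fromSpecResidueField s)).map u

instance (s : S) : Subsingleton ↥(Spec (S.residueField s)) :=
  inferInstanceAs (Subsingleton (PrimeSpectrum (S.residueField s)))

/-- A property of the fibre map holds at all the points of the fibre. -/
theorem fibSet_of_fib {Q : ∀ {X Y : Scheme.{u}}, (X ⟶ Y) → X → Prop}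
    {P : MorphismProperty Scheme.{u}} [P.RespectsIso]
    (hPQ : ∀ {X Y : Scheme.{u}} (f : X ⟶ Y), P f → ∀ x, Q f x)
    (x : G.left) (h : P (fib u (G.hom x)).left) : x ∈ fibSet Q u.left H.hom := by
  have hx : H.hom (u.left x) = G.hom x := by rw [← Scheme.Hom.comp_apply, Over.w u]
  refine (forall_fibre_iff u.left H.hom (G.hom x)).1 (hPQ _ ?_) x hx
  show P (pullback.snd u.left (pullback.fst H.hom (S.fromSpecResidueField (G.hom x))))
  rw [← (GrpFin20.isPullback_map (S.fromSpecResidueField (G.hom x)) u).isoPullback_inv_snd]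
  exact (P.cancel_left_of_respectsIso _ _).2 h

theorem exists_fibre_pt (x : G.left) : ∃ z : ((Over.pullback (S.fromSpecResidueField (G.hom x))).obj G).left,
    pullback.fst G.hom (S.fromSpecResidueField (G.hom x)) z = x := by
  obtain ⟨z, hz⟩ : x ∈ Set.range (G.hom.fiberι (G.hom x)) := by
    rw [Scheme.Hom.range_fiberι]; exact rfl
  exact ⟨z, hz⟩

/-- An open of the source on which a stable property holds restricts to a nonempty open of the fibre. -/
theorem exists_open_fib (P : MorphismProperty Scheme.{u}) [P.IsStableUnderBaseChange] {x : G.left}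
    {W : G.left.Opens} (hx : x ∈ W) (hW : P (W.ι ≫ u.left)) :
    ∃ W' : ((Over.pullback (S.fromSpecResidueField (G.hom x))).obj G).left.Opens,
      (SetLike.coe W').Nonempty ∧ P (W'.ι ≫ (fib u (G.hom x)).left) := by
  obtain ⟨z, hz⟩ := exists_fibre_pt x
  exact ⟨pullback.fst G.hom (S.fromSpecResidueField (G.hom x)) ⁻¹ᵁ W, ⟨z, Eq.subst (motive := fun y => y ∈ W) hz.symm hx⟩,
    MorphismProperty.of_isPullback
      ((isPullback_morphismRestrict _ W).paste_vert (GrpFin20.isPullback_map _ u)) hW⟩

/-- A saturated open set comes from an open set of the base. -/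
theorem isOpen_of_eq_preimage [GrpObj G] {U : Set S} {L : Set G.left} (hL : IsOpen L)
    (h : L = G.hom ⁻¹' U) : IsOpen U := by
  have e : U = η[G].left ⁻¹' L := by
    ext s
    rw [h]
    show s ∈ U ↔ G.hom (η[G].left s) ∈ U
    rw [← Scheme.Hom.comp_apply, Over.w η[G]]
    rfl
  rw [e]
  exact hL.preimage η[G].left.continuous

theorem isOpen_setOf_nhd {X Y : Scheme.{u}} (f : X ⟶ Y) (P : MorphismProperty Scheme.{u}) :
    IsOpen {x : X | ∃ W : X.Opens, x ∈ W ∧ P (W.ι ≫ f)} :=
  isOpen_iff_forall_mem_open.2 fun _ ⟨W, hx, hW⟩ => ⟨W, fun _ hy => ⟨W, hy, hW⟩, W.2, hx⟩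

variable [GrpObj G] [GrpObj H] [IsMonHom u]

theorem lft_fib (hG : ∀ s : S, LocallyOfFiniteType (G.hom.fiberToSpecResidueField s)) (s : S) :
    LocallyOfFinitePresentation ((Over.pullback (S.fromSpecResidueField s)).obj G).hom :=
  LocallyOfFinitePresentation.iff_locallyOfFiniteType.2 (hG s)

theorem unr_iff [LocallyOfFinitePresentation u.left]
    (hG : ∀ s : S, LocallyOfFiniteType (G.hom.fiberToSpecResidueField s)) (x : G.left) :
    UnrPt u.left x ↔ FormallyUnramified (fib u (G.hom x)).left := by
  refine ⟨fun ⟨W, hx, hW⟩ => ?_, fun h => unrPt_of_mem_fibSet u.left H.hom x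
    (fibSet_of_fib u (fun f hf => (forall_unrPt_iff f).2 hf) x h)⟩
  obtain ⟨W', hW', h'⟩ := exists_open_fib u @FormallyUnramified hx hW
  letI : GrpObj ((Over.pullback (S.fromSpecResidueField (G.hom x))).obj G) := Functor.grpObjObj
  letI : GrpObj ((Over.pullback (S.fromSpecResidueField (G.hom x))).obj H) := Functor.grpObjObj
  haveI := lft_fib hG (G.hom x)
  haveI : LocallyOfFiniteType (fib u (G.hom x)).left :=
    MorphismProperty.of_isPullback (GrpFin20.isPullback_map _ u) (inferInstanceAs (LocallyOfFiniteType u.left))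
  exact GrpAtPt20.formallyUnramified_of_open _ W' hW' h'

theorem qf_iff [LocallyOfFiniteType u.left] (x : G.left) :
    u.left.QuasiFiniteAt x ↔ LocallyQuasiFinite (fib u (G.hom x)).left := by
  obtain ⟨z, hz⟩ := exists_fibre_pt x
  have sq := GrpFin20.isPullback_map (S.fromSpecResidueField (G.hom x)) u
  haveI : LocallyOfFiniteType (fib u (G.hom x)).left := MorphismProperty.of_isPullback sq ‹_›
  have e := FibDim14.fibreDimAt_baseChange sq z
  rw [hz] at e
  rw [← FibDim14.fibreDimAt_eq_zero_iff, ← e, FibDim14.fibreDimAt_eq_zero_iff]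
  refine ⟨fun h => ?_, fun h => (fib u (G.hom x)).left.quasiFiniteAt z⟩
  let W := (fib u (G.hom x)).left.quasiFiniteLocus
  have hW : LocallyQuasiFinite (W.ι ≫ (fib u (G.hom x)).left) := (GrpUnr20.locallyQuasiFinite_iff _).2 fun y =>
    (FibDim14.fibreDimAt_eq_zero_iff _ y).2 (Scheme.Hom.quasiFiniteAt_comp_iff_of_isOpenImmersion.2 y.2)
  letI : GrpObj ((Over.pullback (S.fromSpecResidueField (G.hom x))).obj G) := Functor.grpObjObj
  letI : GrpObj ((Over.pullback (S.fromSpecResidueField (G.hom x))).obj H) := Functor.grpObjObj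
  exact GrpAtPt20.locallyQuasiFinite_of_open _ W ⟨z, h⟩ hW

variable [Flat G.hom] [LocallyOfFinitePresentation G.hom] [LocallyOfFiniteType H.hom]

omit [GrpObj G] [GrpObj H] [IsMonHom u] [Flat G.hom] in
theorem lfp_left : LocallyOfFinitePresentation u.left := by
  haveI : LocallyOfFinitePresentation (u.left ≫ H.hom) := by rw [Over.w]; infer_instance
  exact SchBasic.locallyOfFinitePresentation_of_comp u.left H.hom

omit [GrpObj G] [GrpObj H] [IsMonHom u] in
theorem flatPt_of_fib (x : G.left) (h : x ∈ fibSet FlatPt u.left H.hom) : FlatPt u.left x := by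
  haveI : LocallyOfFinitePresentation (u.left ≫ H.hom) := by rw [Over.w]; infer_instance
  refine flatPt_of_mem_fibSet_scheme u.left H.hom x ?_ h
  haveI : Flat (u.left ≫ H.hom) := by rw [Over.w]; infer_instance
  exact Flat.stalkMap (u.left ≫ H.hom) x

theorem flat_iff (x : G.left) : FlatPt u.left x ↔ Flat (fib u (G.hom x)).left := by
  refine ⟨fun h => ?_, fun h => flatPt_of_fib u x
    (fibSet_of_fib u (fun f (hf : Flat f) y => Flat.stalkMap f y) x h)⟩
  obtain ⟨z, hz⟩ := exists_fibre_pt x
  have sq := GrpFin20.isPullback_map (S.fromSpecResidueField (G.hom x)) u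
  letI : GrpObj ((Over.pullback (S.fromSpecResidueField (G.hom x))).obj G) := Functor.grpObjObj
  letI : GrpObj ((Over.pullback (S.fromSpecResidueField (G.hom x))).obj H) := Functor.grpObjObj
  exact GrpAtPt20.flat_hom _ _ (fib u (G.hom x)) z (isPtLocal_flatPt.bc sq z (by rw [hz]; exact h))

theorem smooth_iff (x : G.left) : SmoothPt u.left x ↔ Smooth (fib u (G.hom x)).left := by
  haveI := lfp_left u
  refine ⟨fun ⟨W, hx, hW⟩ => ?_, fun h => ?_⟩
  · obtain ⟨W', hW', h'⟩ := exists_open_fib u @Smooth hx hW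
    letI : GrpObj ((Over.pullback (S.fromSpecResidueField (G.hom x))).obj G) := Functor.grpObjObj
    letI : GrpObj ((Over.pullback (S.fromSpecResidueField (G.hom x))).obj H) := Functor.grpObjObj
    haveI := lft_fib (G := G) (fun s => inferInstanceAs (LocallyOfFiniteType (pullback.snd _ _))) (G.hom x)
    exact GrpAtPt20.smooth_of_open _ W' hW' h'
  · exact smoothPt_of_flatPt_of_mem_fibSet u.left H.hom x
      (flatPt_of_fib u x (fibSet_of_fib u (fun f (hf : Smooth f) y => Flat.stalkMap f y) x h))
      (fibSet_of_fib u (fun f hf => (forall_smoothPt_iff f).2 hf) x h)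

theorem etale_iff (x : G.left) :
    (∃ W : G.left.Opens, x ∈ W ∧ Etale (W.ι ≫ u.left)) ↔ Etale (fib u (G.hom x)).left := by
  haveI := lfp_left u
  rw [exists_etale_nhd_iff, etale_iff_smooth_and_formallyUnramified, smooth_iff u x,
    unr_iff u (fun s => inferInstanceAs (LocallyOfFiniteType (pullback.snd _ _))) x]

end Groth.Agent.GrpLocus20
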