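import Groth.Agent.Lib.AbRigid.Shear
import Groth.Agent.Lib.Descend.BaseChangeAt
import Groth.Agent.Lib.FppfSource.Scheme
import Groth.Agent.Lib.H12.FlatComp
import Groth.Agent.Lib.GrpAtPt20.Props
import Groth.Agent.Lib.Thick4

/-!
# The largest open on which a homomorphism of groups has a property is a subgroup over its image
-/

universe u

open CategoryTheory Limits MonoidalCategory CartesianMonoidalCategory AlgebraicGeometry
open scoped MonObj GrpObj

set_option linter.style.haveILetI false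
set_option backward.isDefEq.respectTransparency false

namespace Groth.Agent.GrpLocus20

/-- `P` descends along base changes by morphisms with `Q`, tested on an open surjecting to the source. -/
def DescendsAlong (P Q : MorphismProperty Scheme.{u}) : Prop :=
  ∀ {Z X Y Y' : Scheme.{u}} {a : Z ⟶ X} {b : Z ⟶ Y'} {f : X ⟶ Y} {g : Y' ⟶ Y},
    IsPullback a b f g → Q g → ∀ T : Z.Opens, P (T.ι ≫ b) → Surjective (T.ι ≫ a) → P f

theorem descendsAlong_universallyOpen : DescendsAlong @UniversallyOpen.{u} @UniversallyOpen.{u} := by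
  intro Z X Y Y' a b f g h hg T hT hs
  haveI := hg; haveI := hT; haveI := hs
  haveI : UniversallyOpen ((T.ι ≫ a) ≫ f) := by rw [Category.assoc, h.w, ← Category.assoc]; infer_instance
  exact Thick4.universallyOpen_of_comp_surjective (T.ι ≫ a) f

theorem lfp_of_descend {Z X Y Y' : Scheme.{u}} {a : Z ⟶ X} {b : Z ⟶ Y'} {f : X ⟶ Y} {g : Y' ⟶ Y}
    (h : IsPullback a b f g) [Flat g] [LocallyOfFinitePresentation g] (T : Z.Opens)
    [LocallyOfFinitePresentation (T.ι ≫ b)] [Surjective (T.ι ≫ a)] : LocallyOfFinitePresentation f := by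
  haveI : Flat a := MorphismProperty.of_isPullback h.flip ‹Flat g›
  haveI : LocallyOfFinitePresentation a := MorphismProperty.of_isPullback h.flip ‹LocallyOfFinitePresentation g›
  haveI : LocallyOfFinitePresentation ((T.ι ≫ a) ≫ f) := by
    rw [Category.assoc, h.w, ← Category.assoc]; infer_instance
  exact FppfSource.locallyOfFinitePresentation_of_fppf_comp (T.ι ≫ a) f

theorem descendsAlong_flat : DescendsAlong (@Flat ⊓ @LocallyOfFinitePresentation : MorphismProperty Scheme.{u})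
    (@Flat ⊓ @LocallyOfFinitePresentation : MorphismProperty Scheme.{u}) := by
  intro Z X Y Y' a b f g h hg T hT hs
  haveI := hg.1; haveI := hg.2; haveI := hT.1; haveI := hT.2; haveI := hs
  refine ⟨?_, lfp_of_descend h T⟩
  haveI : Flat a := MorphismProperty.of_isPullback h.flip hg.1
  haveI : Flat ((T.ι ≫ a) ≫ f) := by rw [Category.assoc, h.w, ← Category.assoc]; infer_instance
  exact H12.flat_of_comp_of_surjective (T.ι ≫ a) f

theorem descendsAlong_smooth : DescendsAlong @Smooth.{u}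
    (@Flat ⊓ @LocallyOfFinitePresentation : MorphismProperty Scheme.{u}) := by
  intro Z X Y Y' a b f g h hg T hT hs
  haveI := hg.1; haveI := hg.2; haveI := hT; haveI := hs
  haveI := lfp_of_descend h T
  refine GrpAtPt20.of_forall_nhd @Smooth f fun x => ?_
  obtain ⟨t, rfl⟩ := hs.surj x
  rw [Scheme.Hom.comp_apply]
  exact Descend.smooth_nhd_of_baseChange_flatAt h _ (Flat.stalkMap g _) ⟨T, t.2, hT⟩

theorem descendsAlong_etale : DescendsAlong @Etale.{u}
    (@Flat ⊓ @LocallyOfFinitePresentation : MorphismProperty Scheme.{u}) := by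
  intro Z X Y Y' a b f g h hg T hT hs
  haveI := hg.1; haveI := hg.2; haveI := hT; haveI := hs
  haveI := lfp_of_descend h T
  refine GrpAtPt20.of_forall_nhd @Etale f fun x => ?_
  obtain ⟨t, rfl⟩ := hs.surj x
  rw [Scheme.Hom.comp_apply]
  exact Descend.etale_nhd_of_flat_baseChange h _ ⟨T, t.2, hT⟩

variable {S : Scheme.{u}} {G H : Over S} [GrpObj G] [GrpObj H] (u : G ⟶ H) [IsMonHom u]
  (P Q : MorphismProperty Scheme.{u}) [P.IsStableUnderBaseChange] [Q.IsStableUnderBaseChange]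
  (hPres : ∀ {X' X Y : Scheme.{u}} (j : X' ⟶ X) [IsOpenImmersion j] (f : X ⟶ Y), P f → P (j ≫ f))
  (hQ : Q ≤ @UniversallyOpen) (hdesc : DescendsAlong P Q)
  (V : G.left.Opens) (hV : P (V.ι ≫ u.left)) (hVQ : Q (V.ι ≫ G.hom))
  (hmax : ∀ W : G.left.Opens, P (W.ι ≫ u.left) → W ≤ V)

omit [GrpObj G] [GrpObj H] [IsMonHom u] in
include hPres hQ hdesc hV hVQ hmax in
/-- Points reached from `V ×_S V` by an automorphism compatible with `u` stay in `V`. -/
theorem mem_of_shear (e : G ⊗ G ≅ G ⊗ G) (σ : H ⊗ G ≅ H ⊗ G) (hcomm : (u ▷ G) ≫ σ.hom = e.hom ≫ (u ▷ G))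
    (t : (G ⊗ G).left) (h1 : (fst G G).left (e.hom.left t) ∈ V) (h2 : (snd G G).left t ∈ V) :
    (fst G G).left t ∈ V := by
  haveI : IsIso e.hom.left := inferInstanceAs (IsIso ((Over.forget S).mapIso e).hom)
  haveI : IsIso σ.inv.left := inferInstanceAs (IsIso ((Over.forget S).mapIso σ).inv)
  have sq0 : IsPullback (fst G G).left (u ▷ G).left u.left (fst H G).left :=
    (AbRigid.isPullback_whiskerRight u G).map (Over.forget S)
  let O : (G ⊗ G).left.Opens := (fst G G).left ⁻¹ᵁ V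
  have hO : P (O.ι ≫ (u ▷ G).left) :=
    MorphismProperty.of_isPullback ((isPullback_morphismRestrict (fst G G).left V).paste_vert sq0) hV
  let O' : (G ⊗ G).left.Opens := e.hom.left ⁻¹ᵁ O
  have hO' : P (O'.ι ≫ (u ▷ G).left) := by
    have h : O'.ι ≫ (u ▷ G).left = (e.hom.left ∣_ O) ≫ (O.ι ≫ (u ▷ G).left) ≫ σ.inv.left := by
      rw [Category.assoc, morphismRestrict_ι_assoc, ← Over.comp_left, ← Over.comp_left,
        ← reassoc_of% hcomm, σ.hom_inv_id, Category.comp_id]
    rw [h, P.cancel_left_of_respectsIso, P.cancel_right_of_respectsIso]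
    exact hO
  -- the part of `H ×_S G` over `V`
  let U : (H ⊗ G).left.Opens := (snd H G).left ⁻¹ᵁ V
  have hg : Q (U.ι ≫ (fst H G).left) :=
    MorphismProperty.of_isPullback (((isPullback_morphismRestrict (snd H G).left V).flip.paste_horiz
      (IsPullback.of_hasPullback H.hom G.hom)).flip) hVQ
  let B : (G ⊗ G).left.Opens := (u ▷ G).left ⁻¹ᵁ U
  have sq : IsPullback (B.ι ≫ (fst G G).left) ((u ▷ G).left ∣_ U) u.left (U.ι ≫ (fst H G).left) :=
    (isPullback_morphismRestrict (u ▷ G).left U).flip.paste_horiz sq0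
  let T : (B : Scheme).Opens := B.ι ⁻¹ᵁ O'
  have hT : P (T.ι ≫ ((u ▷ G).left ∣_ U)) := by
    have h : P ((T.ι ≫ ((u ▷ G).left ∣_ U)) ≫ U.ι) := by
      rw [Category.assoc, morphismRestrict_ι, ← morphismRestrict_ι_assoc]
      exact hPres _ _ hO'
    have sqm := (IsPullback.of_horiz_isIso (fst := 𝟙 (T : Scheme)) (snd := T.ι ≫ ((u ▷ G).left ∣_ U))
      (f := T.ι ≫ ((u ▷ G).left ∣_ U)) (g := 𝟙 _) ⟨by simp⟩).paste_vert (IsKernelPair.id_of_mono U.ι)
    rw [Category.comp_id] at sqm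
    exact MorphismProperty.of_isPullback sqm h
  let a := B.ι ≫ (fst G G).left
  haveI : UniversallyOpen a := MorphismProperty.of_isPullback sq.flip (hQ _ hg)
  let R : G.left.Opens := ⟨a '' (T : Set _), a.isOpenMap _ T.2⟩
  have htB : t ∈ B := by
    show (snd H G).left ((u ▷ G).left t) ∈ V
    rw [← Scheme.Hom.comp_apply, ← Over.comp_left, whiskerRight_snd]
    exact h2
  refine hmax R ?_ ⟨⟨t, htB⟩, h1, rfl⟩
  have sqR := (isPullback_morphismRestrict a R).paste_vert sq
  refine hdesc sqR hg ((a ⁻¹ᵁ R).ι ⁻¹ᵁ T) ?_ ⟨fun ⟨y, ⟨z, hz, hzy⟩⟩ => ?_⟩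
  · rw [← morphismRestrict_ι_assoc]
    exact hPres _ _ hT
  · refine ⟨⟨⟨z, ⟨z, hz, rfl⟩⟩, hz⟩, R.ι.isOpenEmbedding.injective ?_⟩
    rw [← Scheme.Hom.comp_apply, Category.assoc, morphismRestrict_ι]
    exact hzy

include hPres hQ hdesc hV hVQ hmax in
theorem subgroup : IsOpen (G.hom '' (V : Set G.left)) ∧
    (∀ g ∈ V, ∀ p : ↥(𝟙_ (Over S)).left, (𝟙_ (Over S)).hom p = G.hom g → η[G].left p ∈ V) ∧
    (∀ g ∈ V, ι[G].left g ∈ V) ∧
    (∀ z : ↥(G ⊗ G).left, (fst G G).left z ∈ V → (snd G G).left z ∈ V → μ[G].left z ∈ V) := by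
  let τ : G ⊗ G ≅ G ⊗ G :=
    { hom := lift (fst G G * snd G G) (snd G G)
      inv := lift (fst G G * (snd G G)⁻¹) (snd G G)
      hom_inv_id := by
        apply CartesianMonoidalCategory.hom_ext <;> simp [MonObj.comp_mul, GrpObj.comp_inv]
      inv_hom_id := by
        apply CartesianMonoidalCategory.hom_ext <;> simp [MonObj.comp_mul] }
  let σ : H ⊗ G ≅ H ⊗ G :=
    { hom := lift (fst H G * (snd H G ≫ u)) (snd H G)
      inv := lift (fst H G * (snd H G ≫ u)⁻¹) (snd H G)
      hom_inv_id := by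
        apply CartesianMonoidalCategory.hom_ext <;> simp [MonObj.comp_mul, GrpObj.comp_inv]
      inv_hom_id := by
        apply CartesianMonoidalCategory.hom_ext <;> simp [MonObj.comp_mul] }
  have hτ : (u ▷ G) ≫ σ.hom = τ.hom ≫ (u ▷ G) := by
    apply CartesianMonoidalCategory.hom_ext <;>
      simp [σ, τ, MonObj.comp_mul, MonObj.mul_comp]
  have hτ' : (u ▷ G) ≫ σ.symm.hom = τ.symm.hom ≫ (u ▷ G) := by
    rw [Iso.symm_hom, Iso.symm_hom, Iso.comp_inv_eq, Category.assoc, hτ, Iso.inv_hom_id_assoc]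
  have key := mem_of_shear u P Q hPres hQ hdesc V hV hVQ hmax
  have hap : ∀ {A B C : Over S} (f : A ⟶ B) (g : B ⟶ C) (p : A.left), (f ≫ g).left p = g.left (f.left p) :=
    fun f g p => by rw [Over.comp_left, Scheme.Hom.comp_apply]
  have hunit : ∀ g ∈ V, (1 : G ⟶ G).left g ∈ V := fun g hg => by
    have := key τ σ hτ ((lift (1 : G ⟶ G) (𝟙 G)).left g)
      (by rw [← hap, ← hap, show lift (1 : G ⟶ G) (𝟙 G) ≫ τ.hom ≫ fst G G = 𝟙 G by
        simp [τ, MonObj.comp_mul]]; exact hg)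
      (by rw [← hap, lift_snd]; exact hg)
    rwa [← hap, lift_fst] at this
  refine ⟨?_, fun g hg p hp => ?_, fun g hg => ?_, fun z hz1 hz2 => ?_⟩
  · haveI := hQ _ hVQ
    rw [show G.hom '' (V : Set G.left) = Set.range (V.ι ≫ G.hom) by
      rw [show ⇑(V.ι ≫ G.hom) = G.hom ∘ V.ι from funext fun x => Scheme.Hom.comp_apply _ _ x, Set.range_comp, Scheme.Opens.range_ι]]
    exact (V.ι ≫ G.hom).isOpenMap.isOpen_range
  · have h := hunit g hg
    rw [Hom.one_def, hap] at h
    rwa [show (toUnit G).left g = p from hp.symm] at h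
  · have := key τ σ hτ ((lift (𝟙 G)⁻¹ (𝟙 G)).left g)
      (by rw [← hap, ← hap, show lift (𝟙 G)⁻¹ (𝟙 G) ≫ τ.hom ≫ fst G G = 1 by
        simp [τ, MonObj.comp_mul]]; exact hunit g hg)
      (by rw [← hap, lift_snd]; exact hg)
    rw [← hap, lift_fst] at this
    rwa [GrpObj.inv_eq_inv]
  · have := key τ.symm σ.symm hτ' (τ.hom.left z)
      (by rw [← hap, ← hap, Iso.symm_hom, Iso.hom_inv_id_assoc]; exact hz1)
      (by rw [← hap, show τ.hom ≫ snd G G = snd G G by simp [τ]]; exact hz2)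
    rw [← hap, show τ.hom ≫ fst G G = μ[G] by simp [τ, Hom.mul_def]] at this
    exact this

end Groth.Agent.GrpLocus20
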