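import Mathlib.AlgebraicGeometry.Morphisms.Flat
import Mathlib.AlgebraicGeometry.Morphisms.QuasiSeparated
import Mathlib.AlgebraicGeometry.Restrict
import Mathlib.CategoryTheory.MorphismProperty.Descent
import Mathlib.CategoryTheory.MorphismProperty.OverAdjunction

/-!
# Largest opens of the target over which a property holds
-/

universe u

open CategoryTheory Limits AlgebraicGeometry TopologicalSpace

set_option linter.style.haveILetI false
set_option backward.isDefEq.respectTransparency false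

namespace Groth.Agent.GrpLocus20

variable {P : MorphismProperty Scheme.{u}} [P.IsStableUnderBaseChange]

/-- A property over an open passes to every base change factoring through it. -/
theorem restrict_bc {X Y X' Y' : Scheme.{u}} {f : X ⟶ Y} {V : Y.Opens} (hP : P (f ∣_ V))
    {p : X' ⟶ X} {q : X' ⟶ Y'} {r : Y' ⟶ V.toScheme} (h : IsPullback p q f (r ≫ V.ι)) :
    P q ∧ ∃ s : X' ⟶ (f ⁻¹ᵁ V).toScheme, IsPullback s q (f ∣_ V) r := by
  have SV := (isPullback_morphismRestrict f V).flip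
  have hs : IsPullback (SV.lift p (q ≫ r) (by rw [h.w, Category.assoc])) q (f ∣_ V) r :=
    IsPullback.of_right (by rw [SV.lift_fst]; exact h) (SV.lift_snd _ _ _) SV
  exact ⟨P.of_isPullback hs hP, _, hs⟩

/-- The largest open of the target over which a fpqc local property holds commutes with flat open base change. -/
theorem maxTarget_eq [IsZariskiLocalAtTarget P] [P.DescendsAlong (@Flat ⊓ @Surjective ⊓ @QuasiCompact)]
    {X Y Y' : Scheme.{u}} (f : X ⟶ Y) (g : Y' ⟶ Y) [Flat g] (hg : IsOpenMap g)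
    {X' : Scheme.{u}} (p : X' ⟶ X) (q : X' ⟶ Y') (sq : IsPullback p q f g)
    (W : Y.Opens) (hW : P (f ∣_ W)) (hmax : ∀ W₀ : Y.Opens, P (f ∣_ W₀) → W₀ ≤ W)
    (W₁ : Y'.Opens) (hW₁ : P (q ∣_ W₁)) (hmax₁ : ∀ W₀ : Y'.Opens, P (q ∣_ W₀) → W₀ ≤ W₁) :
    W₁ = g ⁻¹ᵁ W := by
  refine le_antisymm (fun y hy => ?_) (hmax₁ _ ?_)
  · obtain ⟨V, hV, hyV, hVW⟩ := exists_isAffineOpen_mem_and_subset (X := Y) (x := g y)
      (U := ⟨g '' W₁, hg _ W₁.2⟩) ⟨y, hy, rfl⟩
    have hpre : ∀ v : (V : Set Y), ∃ w : Y', w ∈ W₁ ∧ g w = v := fun v => hVW v.2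
    choose w hw hgw using hpre
    choose U hU hwU hUW using fun v => exists_isAffineOpen_mem_and_subset (X := Y') (x := w v)
      (U := W₁ ⊓ g ⁻¹ᵁ V) ⟨hw v, show g (w v) ∈ V by rw [hgw]; exact v.2⟩
    obtain ⟨t, ht⟩ := hV.isCompact.elim_finite_subcover (fun v => g '' (U v : Set Y'))
      (fun v => hg _ (U v).2) (fun v hv => Set.mem_iUnion.2 ⟨⟨v, hv⟩, _, hwU _, hgw _⟩)
    let U' : Y'.Opens := ⨆ v ∈ t, U v
    have hU'W : U' ≤ W₁ ⊓ g ⁻¹ᵁ V := iSup₂_le fun v _ => hUW v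
    have hU'c : IsCompact (U' : Set Y') := by
      simp only [U', Opens.coe_iSup]
      exact t.isCompact_biUnion fun v _ => (hU v).isCompact
    haveI : CompactSpace U'.toScheme := isCompact_iff_compactSpace.1 hU'c
    haveI : IsAffine V.toScheme := hV
    let r : U'.toScheme ⟶ V.toScheme := g.resLE V U' (hU'W.trans inf_le_right)
    have hr : r ≫ V.ι = U'.ι ≫ g := Scheme.Hom.resLE_comp_ι _ _
    haveI : Flat r := by
      have : Flat (r ≫ V.ι) := by rw [hr]; infer_instance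
      exact MorphismProperty.of_postcomp (W := @Flat) (W' := @IsOpenImmersion) r V.ι inferInstance this
    haveI : QuasiCompact r := quasiCompact_of_compactSpace _
    haveI : Surjective r := ⟨fun v => by
      obtain ⟨i, hi, y', hy', e⟩ := Set.mem_iUnion₂.1 (ht v.2)
      refine ⟨⟨y', Opens.mem_iSup.2 ⟨i, Opens.mem_iSup.2 ⟨hi, hy'⟩⟩⟩, V.ι.isOpenEmbedding.injective ?_⟩
      rw [← Scheme.Hom.comp_apply, hr]
      exact e⟩
    have sq' : IsPullback ((q ⁻¹ᵁ U').ι ≫ p) (q ∣_ U') f (r ≫ V.ι) := by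
      rw [hr]
      exact (isPullback_morphismRestrict q U').flip.paste_horiz sq
    have hres : P (q ∣_ U') := (restrict_bc (r := Y'.homOfLE (hU'W.trans inf_le_left)) hW₁
      (p := (q ⁻¹ᵁ U').ι) (q := q ∣_ U') (by
        rw [Scheme.homOfLE_ι]
        exact (isPullback_morphismRestrict q U').flip)).1
    have SV := (isPullback_morphismRestrict f V).flip
    have hsq : IsPullback (SV.lift _ ((q ∣_ U') ≫ r) (by rw [sq'.w, Category.assoc])) (q ∣_ U') (f ∣_ V) r :=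
      IsPullback.of_right (by rw [SV.lift_fst]; exact sq') (SV.lift_snd _ _ _) SV
    exact hmax V (MorphismProperty.of_isPullback_of_descendsAlong (Q := @Flat ⊓ @Surjective ⊓ @QuasiCompact)
      hsq.flip ⟨⟨inferInstance, inferInstance⟩, inferInstance⟩ hres) hyV
  · refine (restrict_bc (r := g ∣_ W) hW (p := (q ⁻¹ᵁ (g ⁻¹ᵁ W)).ι ≫ p) (q := q ∣_ g ⁻¹ᵁ W) ?_).1
    rw [morphismRestrict_ι]
    exact (isPullback_morphismRestrict q (g ⁻¹ᵁ W)).flip.paste_horiz sq

/-- There is a largest open of the target over which a Zariski local property holds. -/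
theorem exists_maxTarget [IsZariskiLocalAtTarget P] {X Y : Scheme.{u}} (f : X ⟶ Y) :
    ∃ W : Y.Opens, P (f ∣_ W) ∧ ∀ W₀ : Y.Opens, P (f ∣_ W₀) → W₀ ≤ W := by
  let W : Y.Opens := ⨆ i : {W₀ : Y.Opens // P (f ∣_ W₀)}, i.1
  refine ⟨W, ?_, fun W₀ h => le_iSup (fun i : {W₀ : Y.Opens // P (f ∣_ W₀)} => i.1) ⟨W₀, h⟩⟩
  refine IsZariskiLocalAtTarget.of_iSup_eq_top
    (fun i : {W₀ : Y.Opens // P (f ∣_ W₀)} => W.ι ⁻¹ᵁ i.1) ?_ fun i => ?_
  · rw [← Scheme.Hom.preimage_iSup]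
    exact Scheme.Opens.ι_preimage_self W
  · refine (restrict_bc i.2 (r := W.ι.resLE i.1 (W.ι ⁻¹ᵁ i.1) le_rfl)
      (p := ((f ∣_ W) ⁻¹ᵁ (W.ι ⁻¹ᵁ i.1)).ι ≫ (f ⁻¹ᵁ W).ι) ?_).1
    rw [Scheme.Hom.resLE_comp_ι]
    exact (isPullback_morphismRestrict (f ∣_ W) _).flip.paste_horiz (isPullback_morphismRestrict f W).flip

end Groth.Agent.GrpLocus20
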